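import Mathlib.RingTheory.TensorProduct.Basic
import Mathlib.RingTheory.Flat.Basic
import Mathlib.FieldTheory.IsAlgClosed.AlgebraicClosure
import Mathlib.FieldTheory.IntermediateField.Adjoin.Basic
import Mathlib.LinearAlgebra.Basis.VectorSpace

/-!
# Irreducibility over the algebraic closure and over finite extensions
-/

set_option autoImplicit false
set_option maxHeartbeats 400000
set_option linter.style.haveILetI false

universe u v w

open scoped TensorProduct

namespace GrothLib.AbsIrr26

variable {K : Type u} [Field K] {E : Type w} [AddCommGroup E] [Module K E] (T : Set (E →ₗ[K] E))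
variable {L M : Type u} [Field L] [Algebra K L] [Field M] [Algebra K M]

/-- Irreducibility of the base change for a family of operators. -/
def Irr (L : Type u) [Field L] [Algebra K L] : Prop :=
  Nontrivial (L ⊗[K] E) ∧ ∀ N : Submodule L (L ⊗[K] E),
    (∀ t ∈ T, ∀ x ∈ N, t.baseChange L x ∈ N) → N = ⊥ ∨ N = ⊤

variable (φ : L →ₐ[K] M)

/-- The change of field. -/
noncomputable def ext : L ⊗[K] E →ₗ[K] M ⊗[K] E := φ.toLinearMap.rTensor E

theorem ext_tmul (l : L) (e : E) : ext φ (l ⊗ₜ[K] e) = φ l ⊗ₜ[K] e := rfl

theorem ext_smul (l : L) (x : L ⊗[K] E) : ext φ (l • x) = φ l • ext φ x := by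
  induction x using TensorProduct.induction_on with
  | zero => simp
  | tmul a e => rw [TensorProduct.smul_tmul', ext_tmul, ext_tmul, TensorProduct.smul_tmul', smul_eq_mul,
      smul_eq_mul, map_mul]
  | add x y hx hy => simp only [smul_add, map_add, hx, hy]

theorem ext_injective : Function.Injective (ext (E := E) φ) :=
  Module.Flat.rTensor_preserves_injective_linearMap _ φ.injective

theorem ext_baseChange (t : E →ₗ[K] E) (x : L ⊗[K] E) : ext φ (t.baseChange L x) = t.baseChange M (ext φ x) := by
  induction x using TensorProduct.induction_on with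
  | zero => simp
  | tmul a e => rfl
  | add x y hx hy => simp only [map_add, hx, hy]

theorem eq_top_of_one_tmul {N : Submodule L (L ⊗[K] E)} (h : ∀ e : E, (1 : L) ⊗ₜ[K] e ∈ N) : N = ⊤ := by
  refine eq_top_iff.2 fun x _ => ?_
  induction x using TensorProduct.induction_on with
  | zero => exact zero_mem _
  | tmul a e =>
    have := N.smul_mem a (h e)
    rwa [TensorProduct.smul_tmul', smul_eq_mul, mul_one] at this
  | add x y hx hy => exact add_mem (hx trivial) (hy trivial)

theorem exists_intermediateField [Algebra.IsAlgebraic K M] (x : M ⊗[K] E) :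
    ∃ F : IntermediateField K M, FiniteDimensional K F ∧ x ∈ LinearMap.range (ext (E := E) F.val) := by
  induction x using TensorProduct.induction_on with
  | zero => exact ⟨⊥, inferInstance, zero_mem _⟩
  | tmul a e =>
    exact ⟨IntermediateField.adjoin K {a}, IntermediateField.adjoin.finiteDimensional
      (Algebra.IsAlgebraic.isAlgebraic a).isIntegral,
      ⟨⟨a, IntermediateField.mem_adjoin_simple_self K a⟩ ⊗ₜ[K] e, rfl⟩⟩
  | add x y hx hy =>
    obtain ⟨F, hF, x', rfl⟩ := hx
    obtain ⟨G, hG, y', rfl⟩ := hy
    refine ⟨F ⊔ G, inferInstance, ext (IntermediateField.inclusion le_sup_left) x' +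
      ext (IntermediateField.inclusion le_sup_right) y', ?_⟩
    have key : ∀ {A B : IntermediateField K M} (h : A ≤ B) (z : A ⊗[K] E),
        ext B.val (ext (IntermediateField.inclusion h) z) = ext A.val z := fun h z => by
      induction z using TensorProduct.induction_on with
      | zero => simp
      | tmul a e => rfl
      | add x y hx hy => simp only [map_add, hx, hy]
    rw [map_add, key, key]

theorem irr_iff [Algebra.IsAlgebraic K M] [IsAlgClosed M] :
    Irr T M ↔ ∀ (L : Type u) [Field L] [Algebra K L] [FiniteDimensional K L], Irr T L := by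
  constructor
  · intro hM L _ _ _
    let φ : L →ₐ[K] M := IsAlgClosed.lift
    constructor
    · obtain ⟨e, he⟩ : ∃ e : E, e ≠ 0 := by
        by_contra! h
        haveI : Subsingleton E := ⟨fun a b => (h a).trans (h b).symm⟩
        haveI := hM.1
        exact not_subsingleton (M ⊗[K] E) inferInstance
      refine ⟨⟨(1 : L) ⊗ₜ[K] e, 0, fun h => he ?_⟩⟩
      exact (Module.Flat.rTensor_preserves_injective_linearMap (M := E) (Algebra.linearMap K L)
        (algebraMap K L).injective).comp (TensorProduct.lid K E).symm.injective (by simpa using h)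
    · intro N hN
      refine or_iff_not_imp_left.2 fun hne => ?_
      obtain ⟨x, hx, hx0⟩ := Submodule.exists_mem_ne_zero_of_ne_bot hne
      let N' : Submodule M (M ⊗[K] E) := Submodule.span M (ext φ '' N)
      have hN' : N' = ⊤ := by
        refine (hM.2 N' fun t ht y hy => ?_).resolve_left fun h => hx0 ?_
        · induction hy using Submodule.span_induction with
          | mem z hz =>
            obtain ⟨z, hz, rfl⟩ := hz
            rw [← ext_baseChange]
            exact Submodule.subset_span ⟨_, hN t ht z hz, rfl⟩
          | zero => rw [map_zero]; exact zero_mem _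
          | add a b _ _ ha hb => rw [map_add]; exact add_mem ha hb
          | smul c a _ ha => rw [map_smul]; exact N'.smul_mem c ha
        · apply ext_injective φ
          rw [map_zero]
          exact (Submodule.mem_bot M).1 (h ▸ Submodule.subset_span ⟨x, hx, rfl⟩)
      letI := φ.toRingHom.toAlgebra
      haveI : IsScalarTower K L M := IsScalarTower.of_algebraMap_eq fun a => (φ.commutes a).symm
      obtain ⟨r, hr⟩ := (Algebra.linearMap L M).exists_leftInverse_of_injective
        (LinearMap.ker_eq_bot_of_injective φ.injective)
      let R : M ⊗[K] E →ₗ[K] L ⊗[K] E := (r.restrictScalars K).rTensor E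
      have hR : ∀ (m : M) (z : L ⊗[K] E), R (m • ext φ z) = r m • z := by
        intro m z
        induction z using TensorProduct.induction_on with
        | zero => simp
        | tmul l e =>
          rw [ext_tmul, TensorProduct.smul_tmul', TensorProduct.smul_tmul']
          show r (m * φ l) ⊗ₜ[K] e = _
          rw [show m * φ l = l • m from mul_comm _ _, map_smul, smul_eq_mul, smul_eq_mul, mul_comm]
        | add a b ha hb => simp only [map_add, smul_add, ha, hb]
      refine eq_top_of_one_tmul fun e => ?_
      have hmem : ∀ y ∈ N', R y ∈ N := by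
        intro y hy
        induction hy using Submodule.closure_induction with
        | zero => rw [map_zero]; exact zero_mem _
        | add a b _ _ ha hb => rw [map_add]; exact add_mem ha hb
        | smul_mem c z hz =>
          obtain ⟨z, hz, rfl⟩ := hz
          rw [hR]
          exact N.smul_mem _ hz
      have h1 := hmem ((1 : M) ⊗ₜ[K] e) (hN' ▸ trivial)
      have h2 : r 1 = 1 := by
        have := LinearMap.congr_fun hr (1 : L)
        simpa using this
      have h3 : R ((1 : M) ⊗ₜ[K] e) = (1 : L) ⊗ₜ[K] e := congrArg (· ⊗ₜ[K] e) h2
      rwa [h3] at h1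
  · intro hfin
    refine ⟨?_, fun N hN => or_iff_not_imp_left.2 fun hne => ?_⟩
    · exact @Function.Injective.nontrivial _ _ (hfin K).1 _ (ext_injective (E := E) (Algebra.ofId K M))
    · obtain ⟨x, hx, hx0⟩ := Submodule.exists_mem_ne_zero_of_ne_bot hne
      obtain ⟨F, hF, x', rfl⟩ := exists_intermediateField x
      let NF : Submodule F (F ⊗[K] E) :=
        { carrier := {y | ext F.val y ∈ N}
          add_mem' := fun {a b} ha hb => by
            simp only [Set.mem_setOf_eq, map_add] at ha hb ⊢
            exact add_mem ha hb
          zero_mem' := by simp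
          smul_mem' := fun c a ha => by
            simp only [Set.mem_setOf_eq, ext_smul] at ha ⊢
            exact N.smul_mem _ ha }
      have hNF : NF = ⊤ := by
        refine ((hfin F).2 NF fun t ht y hy => ?_).resolve_left fun h => hx0 ?_
        · show ext F.val (t.baseChange F y) ∈ N
          rw [ext_baseChange]
          exact hN t ht _ hy
        · have h0 : x' ∈ NF := hx
          rw [h, Submodule.mem_bot] at h0
          rw [h0, map_zero]
      refine eq_top_of_one_tmul fun e => ?_
      have h1 : (1 : F) ⊗ₜ[K] e ∈ NF := hNF ▸ trivial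
      simpa [NF, ext_tmul] using h1

end GrothLib.AbsIrr26
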